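import Cfsg.Agent.H0.MultM
import Cfsg.Agent.H0.MSz8.D
set_option maxRecDepth 100000
set_option Elab.async false
set_option linter.unusedSectionVars false
namespace H0.QSz8
open H0 BN 
noncomputable def n10 : Net := (Net.cons (nat_lit 64) (nat_lit 0x80800000080) (Net.cons (nat_lit 32) (nat_lit 0x80800000000b7ca5d6c) (Net.cons (nat_lit 16) (nat_lit 0x237e000083f0) (Net.cons (nat_lit 8) (nat_lit 0x800f4008d00120014) (Net.cons (nat_lit 4) (nat_lit 0xf02070504090208) (Net.cons (nat_lit 2) (nat_lit 0x20313121233013132) (Net.cons (nat_lit 1) (nat_lit 0x14451544540404140) (Net.cons (nat_lit 2) (nat_lit 0x22002022000202020) (Net.cons (nat_lit 4) (nat_lit 0x8080c000c080a020c) (Net.cons (nat_lit 8) (nat_lit 0xb0009800500044) (Net.cons (nat_lit 16) (nat_lit 0xbea0000064c6) (Net.cons (nat_lit 32) (nat_lit 0x80800000000c6cd7d28) (Net.cons (nat_lit 64) (nat_lit 0x80800000080) Net.nil)))))))))))))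
noncomputable def n11 : Net := (Net.cons (nat_lit 64) (nat_lit 0xa00020000000000) (Net.cons (nat_lit 32) (nat_lit 0xa00020000000000c0ee2200) (Net.cons (nat_lit 16) (nat_lit 0xa00000055d2000035d0) (Net.cons (nat_lit 8) (nat_lit 0xa009c00d4001300dc) (Net.cons (nat_lit 4) (nat_lit 0x504090309010c0a) (Net.cons (nat_lit 2) (nat_lit 0x22301212332222230) (Net.cons (nat_lit 1) (nat_lit 0x11111054104104154) (Net.cons (nat_lit 2) (nat_lit 0x220000002200202) (Net.cons (nat_lit 4) (nat_lit 0xc00040600000400) (Net.cons (nat_lit 8) (nat_lit 0xa00ac00aa00b00088) (Net.cons (nat_lit 16) (nat_lit 0x8000000b5ce00002c20) (Net.cons (nat_lit 32) (nat_lit 0xa00020000000000542ae2b8) (Net.cons (nat_lit 64) (nat_lit 0xa00020000000000) Net.nil)))))))))))))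
noncomputable def n12 : Net := (Net.cons (nat_lit 64) (nat_lit 0x2800000002000) (Net.cons (nat_lit 32) (nat_lit 0x2800000000000b244b6c0) (Net.cons (nat_lit 16) (nat_lit 0x20000142c0000bd28) (Net.cons (nat_lit 8) (nat_lit 0xa0001800c200910026) (Net.cons (nat_lit 4) (nat_lit 0xa0100070c0406050e) (Net.cons (nat_lit 2) (nat_lit 0x2012101101203132) (Net.cons (nat_lit 1) (nat_lit 0x11151540555415440) (Net.cons (nat_lit 2) (nat_lit 0x20202000000200020) (Net.cons (nat_lit 4) (nat_lit 0x802040a0a08000208) (Net.cons (nat_lit 8) (nat_lit 0xa00040005400fe002c) (Net.cons (nat_lit 16) (nat_lit 0x20000d9a40000e008) (Net.cons (nat_lit 32) (nat_lit 0x28000000000002b30e1fe) (Net.cons (nat_lit 64) (nat_lit 0x2800000002000) Net.nil)))))))))))))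
noncomputable def n13 : Net := (Net.cons (nat_lit 64) (nat_lit 0x2000000000000) (Net.cons (nat_lit 32) (nat_lit 0x2000000000000ae1df3de) (Net.cons (nat_lit 16) (nat_lit 0x2000055b900007f1a) (Net.cons (nat_lit 8) (nat_lit 0x1000820002003c) (Net.cons (nat_lit 4) (nat_lit 0x4000e010d070106) (Net.cons (nat_lit 2) (nat_lit 0x3013021130312120) (Net.cons (nat_lit 1) (nat_lit 0x15401100410400010) (Net.cons (nat_lit 2) (nat_lit 0x2200200000020) (Net.cons (nat_lit 4) (nat_lit 0x40008080e0c0000) (Net.cons (nat_lit 8) (nat_lit 0x80001000840084) (Net.cons (nat_lit 16) (nat_lit 0x2000044d400008eac) (Net.cons (nat_lit 32) (nat_lit 0x20000000000003c5c5b46) (Net.cons (nat_lit 64) (nat_lit 0x2000000000000) Net.nil)))))))))))))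
noncomputable def n14 : Net := (Net.cons (nat_lit 64) (nat_lit 0x10) (Net.cons (nat_lit 32) (nat_lit 0x45b97550) (Net.cons (nat_lit 16) (nat_lit 0xec30000080e) (Net.cons (nat_lit 8) (nat_lit 0xc1006e000c0020) (Net.cons (nat_lit 4) (nat_lit 0x10c0e0100030c0908) (Net.cons (nat_lit 2) (nat_lit 0x1020120211332302) (Net.cons (nat_lit 1) (nat_lit 0x4115104141054054) (Net.cons (nat_lit 2) (nat_lit 0x2220200022002002) (Net.cons (nat_lit 4) (nat_lit 0xc0c0200080004) (Net.cons (nat_lit 8) (nat_lit 0x6600c0005800a8) (Net.cons (nat_lit 16) (nat_lit 0xf22400008a40) (Net.cons (nat_lit 32) (nat_lit 0x45b96050) (Net.cons (nat_lit 64) (nat_lit 0x10) Net.nil)))))))))))))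
noncomputable def n15 : Net := (Net.cons (nat_lit 64) (nat_lit 0x8000) (Net.cons (nat_lit 32) (nat_lit 0x18d9aedc) (Net.cons (nat_lit 16) (nat_lit 0x632e00008aa8) (Net.cons (nat_lit 8) (nat_lit 0x800032008c00b100dc) (Net.cons (nat_lit 4) (nat_lit 0x80c010f0b0b0a020e) (Net.cons (nat_lit 2) (nat_lit 0x22132103323011230) (Net.cons (nat_lit 1) (nat_lit 0x15114410440145110) (Net.cons (nat_lit 2) (nat_lit 0x20022220220200020) (Net.cons (nat_lit 4) (nat_lit 0x8020c020c04020e04) (Net.cons (nat_lit 8) (nat_lit 0x8000b200c600640090) (Net.cons (nat_lit 16) (nat_lit 0xa5000006d64) (Net.cons (nat_lit 32) (nat_lit 0xe64e9520) (Net.cons (nat_lit 64) (nat_lit 0x8000) Net.nil)))))))))))))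
noncomputable def nl2 : List Net := [n10, n11, n12, n13, n14, n15]
theorem nl2_ok : allL (Net.ok (nat_lit 128)) nl2 = true := by decide +kernel
noncomputable def nl : List Net := [H0.MSz8.n0, H0.MSz8.n1, H0.MSz8.n2, H0.MSz8.n3, H0.MSz8.n4, H0.MSz8.n5, H0.MSz8.n6, H0.MSz8.n7, H0.MSz8.n8, H0.MSz8.n9, n10, n11, n12, n13, n14, n15]
theorem nl_ok : allL (Net.ok (nat_lit 128)) nl = true := allL_append H0.MSz8.nl_ok nl2_ok
noncomputable def R : Rep := mkRep (nat_lit 7) (nat_lit 128) nl (by decide +kernel) nl_ok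
def defs : List (List ℕ) := [[3, 3, 5, 3, 3, 5, 3, 7], [3, 3, 3, 5, 3, 7, 7, 7, 7], [5, 5, 3, 5, 3, 3, 7, 7, 7, 7, 7], [3, 3], [12, 12, 12, 10, 10, 10, 12, 10], [12, 12, 12, 11, 11, 11, 12, 11]]
def ch2 : List Model.Lev := [(1, [[10], [11], [12], [13], [14], [15]], 64)]
noncomputable def tL2 : TC.WTr := (.node (.node (.node (.node (.node (.leaf [0, 0] 0 0 false) (.leaf [5, 1] 0 0 false)) (.leaf [3, 2] 0 0 false)) (.node (.node (.leaf [2, 1] 0 0 false) (.leaf [5, 5] 0 0 false)) (.leaf [4, 2] 0 0 false))) (.node (.node (.node (.leaf [1, 1] 0 0 false) (.leaf [5, 3] 0 0 false)) (.leaf [4, 0] 0 0 false)) (.node (.leaf [3, 0] 0 0 false) (.leaf [4, 4] 0 0 false)))) (.node (.node (.node (.node (.leaf [1, 0] 0 0 false) (.leaf [5, 2] 0 0 false)) (.leaf [3, 3] 0 0 false)) (.node (.leaf [2, 2] 0 0 false) (.leaf [4, 3] 0 0 false))) (.node (.node (.node (.leaf [2, 0] 0 0 false) (.leaf [5, 4] 0 0 false)) (.leaf [4, 1] 0 0 false)) (.node (.leaf [3, 1] 0 0 false) (.leaf [5, 0] 0 0 false)))))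
noncomputable def tR2 : TC.WTr := (.node (.node (.node (.node (.node (.leaf [3, 5] 0 0 false) (.leaf [1, 5] 0 0 false)) (.leaf [2, 3] 0 0 false)) (.node (.node (.leaf [1, 2, 5] 0 0 false) (.leaf [] 0 0 false)) (.leaf [2, 4] 0 0 false))) (.node (.node (.node (.leaf [3, 4, 5] 0 0 false) (.leaf [3, 5] 0 0 false)) (.leaf [0, 4] 0 0 false)) (.node (.leaf [0, 3] 0 0 false) (.leaf [] 0 0 false)))) (.node (.node (.node (.node (.leaf [0, 1, 3] 0 0 false) (.leaf [2, 5] 0 0 false)) (.leaf [] 0 0 false)) (.node (.leaf [3] 0 0 false) (.leaf [3, 4] 0 0 false))) (.node (.node (.node (.leaf [0, 2, 4] 0 0 false) (.leaf [4, 5] 0 0 false)) (.leaf [1, 4] 0 0 false)) (.node (.leaf [1, 3] 0 0 false) (.leaf [0, 5] 0 0 false)))))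
noncomputable def C2 : Tail.Cfg := ⟨nat_lit 2, nat_lit 1, nat_lit 6, nat_lit 21, nat_lit 21, tL2.get, tR2.get⟩
noncomputable def tests2 : List (List ℕ × ℕ × Bool × ℕ) := [([3], 6, false, (nat_lit 0x2000000000000000780000000000000000000000000000000)), ([3], 7, false, (nat_lit 0x20000000000f0000000000000000000000000000000000000)), ([3], 8, false, (nat_lit 0x200001e000000000000000000000000000000000000000000)), ([4], 10, false, (nat_lit 0x400000000000000000000780000000000000000000000000000000000000000000000000000)), ([4], 11, false, (nat_lit 0x4000000000000000f0000000000000000000000000000000000000000000000000000000000)), ([4], 12, false, (nat_lit 0x40000000001e000000000000000000000000000000000000000000000000000000000000000)), ([4], 13, false, (nat_lit 0x400003c00000000000000000000000000000000000000000000000000000000000000000000)), ([5], 15, false, (nat_lit 0x100000000000000000000000000f0000000000000000000000000000000000000000000000000000000000000000000000000000000)), ([5], 16, false, (nat_lit 0x1000000000000000000001e000000000000000000000000000000000000000000000000000000000000000000000000000000000000)),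 ([5], 17, false, (nat_lit 0x10000000000000003c00000000000000000000000000000000000000000000000000000000000000000000000000000000000000000)), ([5], 18, false, (nat_lit 0x10000000000780000000000000000000000000000000000000000000000000000000000000000000000000000000000000000000000)), ([5], 19, false, (nat_lit 0x100000f0000000000000000000000000000000000000000000000000000000000000000000000000000000000000000000000000000)), ([2], 5, false, (nat_lit 0x1000000000000002000000000000000000000000000)), ([0], 0, false, (nat_lit 0x8000000000000000000000000000000000000000000000040000000000000000000000000000010)), ([4], 5, false, (nat_lit 0x1e00002000000000000000000000000000000000002000000000000000000000000000)), ([5], 5, false, (nat_lit 0x3c0000400000000000000000000000000000000000000000000000000000000000002000000000000000000000000000)), ([2], 3, false, (nat_lit 0x3c000000000f0000000000000000000000000000000400020000000000f0000000000000000)), ([2], 4, false, (nat_lit 0xf000000000000001e0000000000000000000000000000000000000000000000000000800000000200001e000000000000000000000)),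 ([1], 2, false, (nat_lit 0x1000000000000000000000000008000000000000000000008000000000000000000000000400000000000)), ([4], 0, false, (nat_lit 0x8000000000000000000000000000001e00000000000000080000000000000000000000000000000000000000000000000010)), ([1], 0, false, (nat_lit 0x80000000001000000000000000000000000000000000000200000000008000040000000000000000000000000400010)), ([2], 0, false, (nat_lit 0x10000000000200000000000000040000000000000000000040000000001000000000000000000000000010000000000000010)), ([2], 2, false, (nat_lit 0x1000000000000000200001000000000000000000001000000000000000000001000000000000000000002000000000400000000000)), ([1], 1, false, (nat_lit 0x780000000000000008000000003c00000000000000040001e00000000078000040000000000000000000400003c00000)), ([2], 1, false, (nat_lit 0x780003c0000000000000008000000001e00000000078000000000000001000000000000000000010000080000000002000000))]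
noncomputable def rows2 : List (ℕ × List (ℕ × ℕ) × ℕ) := [(0, [(1, 1)], (nat_lit 0x0)), (1, [(3, 1)], (nat_lit 0x0)), (2, [(2, 1)], (nat_lit 0x0)), (3, [(4, 1)], (nat_lit 0x0)), (4, [(5, 1)], (nat_lit 0x0)), (5, [(0, 1)], (nat_lit 0x0)), (6, [(6, 1)], (nat_lit 0x0)), (7, [(7, 1)], (nat_lit 0x0)), (8, [], (nat_lit 0x1000000000000)), (9, [(3, 14), (6, 6), (7, 8)], (nat_lit 0x582699526d233000000000000)), (10, [(6, 2), (7, 5)], (nat_lit 0x9522559227823000000000000)), (11, [(6, 7), (7, 4)], (nat_lit 0x546a4166ab27b000000000000)), (12, [(6, 7), (7, 4)], (nat_lit 0x547a4157ab27a000000000000)), (13, [(6, 14), (7, 8)], (nat_lit 0xa8e482ae463e4000000000000)), (14, [(4, 14), (6, 10), (7, 12)], (nat_lit 0xbc96cfb955e96000000000000)), (15, [(6, 15)], (nat_lit 0x10000000000000)), (16, [(6, 9), (7, 11)], (nat_lit 0xbca6cfba65e95000000000000)), (17, [(7, 3)], (nat_lit 0xc3193ac19441a000000000000)), (18, [(7, 6)], (nat_lit 0x8622648227824000000000000)), (19, [(6, 10), (7, 14)], (nat_lit 0x8ea0e98a083ae000000000000)), (20,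 [(5, 14), (7, 14)], (nat_lit 0x4df7d64e7ccf6000000000000))]
noncomputable def YS2 : List (List (ℕ × ℕ) × ℕ × ℕ) := [([(6, 1)], 2, (nat_lit 0x1)), ([(7, 1)], 2, (nat_lit 0x10))]
def FS2 : List (List (ℕ × ℕ)) := [[(5, 1)], [(0, 1)], [(2, 1)], [(1, 1)], [(3, 1)], [(4, 1)]]
def av2 (x s : ℕ) : ℕ := ([[0, 1, 0, 15, 0, 15], [0, 0, 1, 15, 15, 15], [1, 0, 0, 15, 0, 0], [0, 0, 0, 14, 0, 0], [0, 0, 0, 0, 14, 0], [0, 0, 0, 0, 0, 14]].getD x []).getD s 0
theorem c0 : Model.fixP R [] [[10], [11], [12], [13], [14], [15]] = true := by decide +kernel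
theorem c1 : Model.growP R [[10], [11], [12], [13], [14], [15]] [0, 1, 2, 3, 4, 5] 1 64 = true := by decide +kernel
theorem c2 : rulesB R [2, 1, 0] (fun i => sh 10 (C2.L i)) (fun i => sh 10 (C2.R i)) 0 21 = true := by decide +kernel
theorem c3 : allL (Tail.chkT C2 (nat_lit 23) (nat_lit 15)) ((tests2.drop 0).take 25) = true := by decide +kernel
theorem c4 : allL (Tail.rowChk C2 (nat_lit 23) (nat_lit 15) (nat_lit 4) (tests2.map fun T => T.2.2.2) (FS2 ++ YS2.map fun Y => Y.1)) ((rows2.drop 0).take 21) = true := by decide +kernel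
theorem c5 : Tail.finChk C2 (nat_lit 23) (nat_lit 15) (nat_lit 4) (nat_lit 2) (C2.p ^ 3) av2 (tests2.map fun T => T.2.2.2) FS2 YS2 rows2 = true := by decide +kernel
theorem c6 : defsChk R defs 10 = true := by decide +kernel
end H0.QSz8
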